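import Groth.Agent.Lib.PicGal22.Stage
import Groth.Agent.Lib.GalDesc12.Basic

/-!
# Galois invariant classes descend
-/

set_option autoImplicit false
set_option linter.style.haveILetI false
set_option linter.unusedSectionVars false
set_option backward.isDefEq.respectTransparency false
set_option backward.isDefEq.respectTransparency.types false
set_option maxHeartbeats 1000000

universe u

open CategoryTheory CategoryTheory.Limits AlgebraicGeometry Opposite

noncomputable section

namespace Groth.Agent.PicGal22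

open Groth.Agent.PicDesc21 (pullCl_pullCl pullCl_trivial isInvertibleCl_pull)

variable {k : Type u} [Field k] {X : Scheme.{u}} (f : X ⟶ Spec (CommRingCat.of k))
  [CompactSpace X] [QuasiSeparatedSpace X] (hH0 : IsIso f.appTop)
  (x : Spec (CommRingCat.of k) ⟶ X) (hx : x ≫ f = 𝟙 _)

include hH0 hx in
/-- A class over a finite Galois extension fixed by the Galois group descends. -/
theorem exists_of_fixed_finite (E : Type u) [Field E] [Algebra k E] [FiniteDimensional k E] [IsGalois k E]
    {d : PicF.Cl (PicF.XT f (pt k E))} (hd : PicF.IsInvertibleCl d)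
    (hfix : ∀ τ : E ≃ₐ[k] E, PicF.pullCl (PicF.XTmap f (ptMap (τ : E →ₐ[k] E))) d = d) :
    ∃ c : PicF.Cl X, PicF.IsInvertibleCl c ∧ PicF.pullCl (pullback.fst f (pt k E).hom) c = d := by
  classical
  have ha₀ := bijective_appTop_field f hH0
  let T : Over (Spec (CommRingCat.of k)) := Over.mk (𝟙 _)
  let u : Spec (CommRingCat.of E) ⟶ T.left := (pt k E).hom
  haveI : LocallyOfFinitePresentation u := by
    show LocallyOfFinitePresentation (Spec.map _)
    rw [HasRingHomProperty.Spec_iff (P := @LocallyOfFinitePresentation)]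
    exact (RingHom.finitePresentation_algebraMap).2 (Algebra.FinitePresentation.of_finiteType.1 inferInstance)
  have hu : Presieve.ofArrows (fun _ : PUnit.{u + 1} => Spec (CommRingCat.of E)) (fun _ => u) ∈
      Scheme.fppfPrecoverage T.left :=
    PicDesc21.mem_fppf_iff.2 ⟨fun x => ⟨⟨⟩, IsLocalRing.closedPoint E, Subsingleton.elim (α := PrimeSpectrum k) _ _⟩,
      fun _ => ⟨inferInstanceAs (Flat (Spec.map _)), inferInstance⟩⟩
  let e : AbDual.ovr T u ⟶ pt k E := Over.homMk (𝟙 _) (by simp [AbDual.ovr, T, u])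
  let d' := PicF.pullCl (PicF.XTmap f e) d
  have hd' : PicF.IsInvertibleCl d' := isInvertibleCl_pull _ hd
  have hd'0 : PicF.IsTrivialCl (PicF.pullCl (PicF.secT f x hx (AbDual.ovr T u)) d') :=
    AbDual21.isTrivialCl_spec_field (isInvertibleCl_pull _ hd')
  obtain ⟨c, hc, -, hcd⟩ := RigDesc22.exists_descended_cl f x hx ha₀ hu (fun _ => d') (fun _ => hd') (fun _ => hd'0)
    (fun _ _ V a b _ => by
      show PicF.pullCl (PicF.XTmap f a) (PicF.pullCl (PicF.XTmap f e) d) =
        PicF.pullCl (PicF.XTmap f b) (PicF.pullCl (PicF.XTmap f e) d)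
      rw [RigDesc22.pullCl_XTmap, RigDesc22.pullCl_XTmap]
      let a₁ : V ⟶ pt k E := a ≫ e
      let b₁ : V ⟶ pt k E := b ≫ e
      let P := Curv2.bc k (Spec (CommRingCat.of k)) E
      let a' : V.left ⟶ P := pullback.lift V.hom a₁.left (by
        show V.hom ≫ Spec.map (CommRingCat.ofHom (algebraMap k k)) = a₁.left ≫ (pt k E).hom
        rw [Over.w a₁, show algebraMap k k = RingHom.id k from rfl, CommRingCat.ofHom_id, Spec.map_id, Category.comp_id])
      let b' : V.left ⟶ P := pullback.lift V.hom b₁.left (by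
        show V.hom ≫ Spec.map (CommRingCat.ofHom (algebraMap k k)) = b₁.left ≫ (pt k E).hom
        rw [Over.w b₁, show algebraMap k k = RingHom.id k from rfl, CommRingCat.ofHom_id, Spec.map_id, Category.comp_id])
      obtain ⟨W, hW, hWσ⟩ := GalDesc12.exists_cover k E (Spec (CommRingCat.of k)) a' b'
        ((pullback.lift_fst _ _ _).trans (pullback.lift_fst _ _ _).symm)
      have hsec : ∀ a : V ⟶ pt k E,
          PicF.IsTrivialCl (PicF.pullCl (PicF.secT f x hx V) (PicF.pullCl (PicF.XTmap f a) d)) := fun a =>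
        RigDesc22.trivial_pull f x hx a (AbDual21.isTrivialCl_spec_field (isInvertibleCl_pull _ hd))
      refine PicDesc21.cl_eq_of_local f ha₀ x hx (isInvertibleCl_pull _ hd) (isInvertibleCl_pull _ hd)
        ((hsec _).trans (hsec _).symm)
        (R := Presieve.ofArrows (fun τ => (W τ).toScheme) (fun τ => (W τ).ι)) ?_ ?_
      · refine PicDesc21.mem_fppf_iff.2 ⟨fun v => ?_, fun τ => ⟨inferInstance, inferInstance⟩⟩
        obtain ⟨τ, hτ⟩ := TopologicalSpace.Opens.mem_iSup.1 (show v ∈ iSup W by rw [hW.iSup_eq_top]; trivial)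
        exact ⟨τ, ⟨v, hτ⟩, rfl⟩
      · rintro _ _ ⟨τ⟩
        rw [RigDesc22.pullCl_XTmap, RigDesc22.pullCl_XTmap]
        have hb : AbDual.ovrHom V (W τ).ι ≫ b₁ =
            (AbDual.ovrHom V (W τ).ι ≫ a₁) ≫ ptMap (τ : E →ₐ[k] E) := by
          refine Over.OverMorphism.ext ?_
          have h := congrArg (· ≫ Curv2.bcSnd k (Spec (CommRingCat.of k)) E) (hWσ τ)
          simp only [Category.assoc, GalDesc12.galAct_snd] at h
          show (W τ).ι ≫ b₁.left = ((W τ).ι ≫ a₁.left) ≫ Spec.map _
          rw [Category.assoc]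
          refine ((congrArg ((W τ).ι ≫ ·) (pullback.lift_snd _ _ _)).symm.trans h).trans ?_
          exact congrArg ((W τ).ι ≫ ·) (pullback.lift_snd_assoc _ _ _ _)
        show PicF.pullCl (PicF.XTmap f (AbDual.ovrHom V (W τ).ι ≫ a₁)) d =
          PicF.pullCl (PicF.XTmap f (AbDual.ovrHom V (W τ).ι ≫ b₁)) d
        rw [hb, ← RigDesc22.pullCl_XTmap f _ (ptMap (τ : E →ₐ[k] E)), hfix τ])
  let ι₀ : X ⟶ PicF.XT f T := pullback.lift (𝟙 X) f (by simp [T])
  refine ⟨PicF.pullCl ι₀ c, isInvertibleCl_pull _ hc, ?_⟩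
  let e' : pt k E ⟶ AbDual.ovr T u := Over.homMk (𝟙 _) (by simp [AbDual.ovr, T, u])
  have he : e' ≫ e = 𝟙 _ := Over.OverMorphism.ext (Category.id_comp _)
  have h1 := congrArg (PicF.pullCl (PicF.XTmap f e')) (hcd ⟨⟩)
  rw [RigDesc22.pullCl_XTmap, RigDesc22.pullCl_XTmap, he] at h1
  have hid : PicF.XTmap f (𝟙 (pt k E)) = 𝟙 _ := by
    refine pullback.hom_ext ?_ ?_ <;> simp [PicF.XTmap]
  rw [hid, PicLoc.pullCl_id] at h1
  rw [pullCl_pullCl, ← h1]
  refine congrArg (fun m => PicF.pullCl m c) ?_
  refine pullback.hom_ext ?_ ?_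
  · simp [ι₀, PicF.XTmap]
  · simp only [Category.assoc, ι₀, pullback.lift_snd, PicF.XTmap]
    rw [pullback.condition]
    simp [e', u, AbDual.ovrHom]

include hH0 hx in
/-- Galois invariant classes descend. -/
theorem exists_of_fixed (K : Type u) [Field K] [Algebra k K] [IsGalois k K]
    {d : PicF.Cl (PicF.XT f (pt k K))} (hd : PicF.IsInvertibleCl d)
    (hfix : ∀ σ : K ≃ₐ[k] K, PicF.pullCl (PicF.XTmap f (ptMap (σ : K →ₐ[k] K))) d = d) :
    ∃ c : PicF.Cl X, PicF.IsInvertibleCl c ∧ PicF.pullCl (pullback.fst f (pt k K).hom) c = d := by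
  classical
  obtain ⟨L, hL, dL, hdL, hdLd⟩ := exists_stage K f d hd
  haveI := hL
  let E : IntermediateField k K := IntermediateField.normalClosure k L K
  have hLE : L ≤ E := IntermediateField.le_normalClosure L
  haveI : FiniteDimensional k E := inferInstance
  haveI : Normal k E := inferInstance
  haveI : IsGalois k E := ⟨⟩
  let r : L →ₐ[k] E := IntermediateField.inclusion hLE
  let dE := PicF.pullCl (PicF.XTmap f (ptMap r)) dL
  have hdE : PicF.pullCl (PicF.XTmap f (ptMap E.val)) dE = d := by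
    show PicF.pullCl _ (PicF.pullCl _ dL) = d
    rw [RigDesc22.pullCl_XTmap, ptMap_comp, ← hdLd]
    rfl
  -- injectivity over `E`
  let qE : PicF.XT f (pt k E) ⟶ Spec (CommRingCat.of E) := PicF.XTproj f (pt k E)
  haveI : IsAffineHom (pullback.fst f (pt k E).hom) :=
    MorphismProperty.pullback_fst _ _ (inferInstanceAs (IsAffineHom (Spec.map _)))
  haveI : CompactSpace (PicF.XT f (pt k E)) := QuasiCompact.compactSpace_of_compactSpace (pullback.fst f (pt k E).hom)
  haveI : QuasiSeparatedSpace (PicF.XT f (pt k E)) :=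
    quasiSeparatedSpace_of_quasiSeparated (pullback.fst f (pt k E).hom)
  have hqE : IsIso qE.appTop :=
    (ConcreteCategory.isIso_iff_bijective _).2 (bijective_appTop_field f hH0 _ _)
  have hinj : ∀ a b : PicF.Cl (PicF.XT f (pt k E)), PicF.IsInvertibleCl a → PicF.IsInvertibleCl b →
      PicF.pullCl (PicF.XTmap f (ptMap E.val)) a = PicF.pullCl (PicF.XTmap f (ptMap E.val)) b → a = b := by
    intro a b ha hb hab
    refine eq_of_pull_eq (k := E) K qE hqE (PicF.secT f x hx (pt k E)) (pullback.lift_snd _ _ _) ha hb ?_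
    let w : pullback qE (Spec.map (CommRingCat.ofHom (algebraMap E K))) ⟶ PicF.XT f (pt k K) :=
      pullback.lift (pullback.fst _ _ ≫ pullback.fst f (pt k E).hom) (pullback.snd _ _) (by
        rw [Category.assoc, pullback.condition]
        refine (pullback.condition_assoc (f := qE) _).trans ?_
        rw [show (pt k E).hom = Spec.map (CommRingCat.ofHom (algebraMap k E)) from rfl, ← Spec.map_comp]
        rfl)
    have hw : w ≫ PicF.XTmap f (ptMap E.val) = pullback.fst qE _ := by
      refine pullback.hom_ext ?_ ?_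
      · refine (Category.assoc _ _ _).trans ?_
        rw [PicF.XTmap, pullback.map, pullback.lift_fst, Category.comp_id, pullback.lift_fst]
      · refine (Category.assoc _ _ _).trans ?_
        rw [PicF.XTmap, pullback.map, pullback.lift_snd, ← Category.assoc, pullback.lift_snd]
        exact pullback.condition.symm
    have h := congrArg (PicF.pullCl w) hab
    rwa [pullCl_pullCl, pullCl_pullCl, hw] at h
  have hfixE : ∀ τ : E ≃ₐ[k] E, PicF.pullCl (PicF.XTmap f (ptMap (τ : E →ₐ[k] E))) dE = dE := by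
    intro τ
    refine hinj _ _ (isInvertibleCl_pull _ (isInvertibleCl_pull _ hdL)) (isInvertibleCl_pull _ hdL) ?_
    let σ : K ≃ₐ[k] K := τ.liftNormal K
    have hc : ptMap E.val ≫ ptMap (τ : E →ₐ[k] E) = ptMap (σ : K →ₐ[k] K) ≫ ptMap E.val := by
      rw [ptMap_comp, ptMap_comp]
      exact congrArg ptMap (AlgHom.ext fun e => (τ.liftNormal_commutes K e).symm)
    rw [RigDesc22.pullCl_XTmap, hc, ← RigDesc22.pullCl_XTmap, hdE]
    exact hfix σ
  obtain ⟨c, hc, hcE⟩ := exists_of_fixed_finite f hH0 x hx E (isInvertibleCl_pull _ hdL) hfixE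
  refine ⟨c, hc, ?_⟩
  refine Eq.trans ?_ ((congrArg _ hcE).trans hdE)
  rw [pullCl_pullCl]
  refine congrArg (fun m => PicF.pullCl m c) ?_
  exact ((pullback.lift_fst _ _ _).trans (Category.comp_id _)).symm

end Groth.Agent.PicGal22
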