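import Mathlib.AlgebraicGeometry.Morphisms.Flat
import Mathlib.AlgebraicGeometry.Morphisms.QuasiSeparated
import Mathlib.AlgebraicGeometry.Limits

/-!
# Global functions after an arbitrary base change from a field
-/

set_option autoImplicit false
set_option linter.style.haveILetI false
set_option backward.isDefEq.respectTransparency false
set_option backward.isDefEq.respectTransparency.types false

universe u

open CategoryTheory CategoryTheory.Limits AlgebraicGeometry Opposite

namespace Groth.Agent.PicGal22

/-- Bijective on sections over affine opens implies bijective on global sections. -/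
theorem bijective_appTop_of_affine {X T : Scheme.{u}} (f : X ⟶ T)
    (h0 : ∀ (V : T.Opens), IsAffineOpen V → Function.Bijective (f.app V)) : Function.Bijective f.appTop := by
  choose U hU hxU _ using fun x : T => exists_isAffineOpen_mem_and_subset (X := T) (x := x) (U := ⊤) trivial
  have hres : ∀ {V W : T.Opens} (h : W ≤ V) (a : Γ(T, V)),
      f.app W (T.presheaf.map (homOfLE h).op a) = X.presheaf.map (homOfLE (f.preimage_mono h)).op (f.app V a) :=
    fun {V W} h a => ConcreteCategory.congr_hom (f.naturality (homOfLE h).op) a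
  constructor
  · intro a b hab
    refine TopCat.Sheaf.eq_of_locally_eq' T.sheaf U ⊤ (fun x => homOfLE le_top)
      (fun x _ => TopologicalSpace.Opens.mem_iSup.2 ⟨x, hxU x⟩) a b fun x => ?_
    refine (h0 _ (hU x)).1 ?_
    change f.app (U x) (T.presheaf.map (homOfLE le_top).op a) = f.app (U x) (T.presheaf.map (homOfLE le_top).op b)
    rw [hres le_top a, hres le_top b]
    exact congrArg (X.presheaf.map _) hab
  · intro c
    choose d hd using fun x => (h0 _ (hU x)).2 (X.presheaf.map (homOfLE (show f ⁻¹ᵁ U x ≤ ⊤ from le_top)).op c)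
    obtain ⟨e, he, -⟩ := T.sheaf.existsUnique_gluing' U ⊤ (fun x => homOfLE le_top)
      (fun x _ => TopologicalSpace.Opens.mem_iSup.2 ⟨x, hxU x⟩) d fun x y => by
        refine TopCat.Sheaf.eq_of_locally_eq' T.sheaf (fun z => U z ⊓ (U x ⊓ U y)) (U x ⊓ U y)
          (fun z => homOfLE inf_le_right) (fun z hz => TopologicalSpace.Opens.mem_iSup.2 ⟨z, hxU z, hz⟩) _ _ fun z => ?_
        refine TopCat.Sheaf.eq_of_locally_eq' T.sheaf
          (fun w : {w : T.Opens // IsAffineOpen w ∧ w ≤ U z ⊓ (U x ⊓ U y)} => w.1) _
          (fun w => homOfLE w.2.2) (fun w hw => ?_) _ _ fun w => ?_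
        · obtain ⟨W, hW, hwW, hWle⟩ := exists_isAffineOpen_mem_and_subset hw
          exact TopologicalSpace.Opens.mem_iSup.2 ⟨⟨W, hW, hWle⟩, hwW⟩
        · refine (h0 _ w.2.1).1 ?_
          have key : ∀ (v : T) (hwv : w.1 ≤ U v), f.app w.1 (T.presheaf.map (homOfLE hwv).op (d v)) =
              X.presheaf.map (homOfLE (show f ⁻¹ᵁ w.1 ≤ ⊤ from le_top)).op c := by
            intro v hwv
            rw [hres hwv (d v), hd, ← CategoryTheory.Functor.map_comp_apply]
            rfl
          have e1 : ∀ (v : T) (hwv : w.1 ≤ U v) (g : op (U v) ⟶ op w.1),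
              T.presheaf.map g (d v) = T.presheaf.map (homOfLE hwv).op (d v) := fun v hwv g => by
            rw [Subsingleton.elim g (homOfLE hwv).op]
          simp only [← CategoryTheory.Functor.map_comp_apply]
          exact (congrArg (f.app w.1) (e1 x (w.2.2.trans (inf_le_right.trans inf_le_left)) _)).trans
            ((key x _).trans ((key y _).symm.trans
              (congrArg (f.app w.1) (e1 y (w.2.2.trans (inf_le_right.trans inf_le_right)) _)).symm))
    refine ⟨e, TopCat.Sheaf.eq_of_locally_eq' X.sheaf (fun x => f ⁻¹ᵁ U x) ⊤ (fun x => homOfLE le_top)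
      (fun p _ => TopologicalSpace.Opens.mem_iSup.2 ⟨f p, hxU (f p)⟩) _ _ fun x => ?_⟩
    refine ((hres (le_top : U x ≤ ⊤) e).symm.trans ?_).trans (hd x)
    exact congrArg _ (he x)

/-- Global functions of a qcqs scheme over a field with only constants, after any base change. -/
theorem bijective_appTop_field {k : Type u} [Field k] {X : Scheme.{u}} (f : X ⟶ Spec (CommRingCat.of k))
    [CompactSpace X] [QuasiSeparatedSpace X] (hH0 : IsIso f.appTop) (T : Scheme.{u}) (τ : T ⟶ Spec (CommRingCat.of k)) :
    Function.Bijective (pullback.snd f τ).appTop := by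
  refine bijective_appTop_of_affine _ fun V hV => ?_
  have H := IsPullback.of_hasPullback f τ
  have hiso := isIso_pushoutSection_of_isQuasiSeparated_of_flat_right H (US := ⊤) (UT := V) (UX := ⊤)
    (UY := pullback.snd f τ ⁻¹ᵁ V) le_top le_top (by simp) (isAffineOpen_top _) hV isCompact_univ isQuasiSeparated_univ
  replace hiso := (isIso_pushoutSection_iff H le_top le_top (by simp)).mp hiso
  haveI : IsIso (f.appLE ⊤ ⊤ le_top) := by
    rw [show f.appLE ⊤ ⊤ le_top = f.appTop from (Scheme.Hom.app_eq_appLE (f := f) (U := ⊤)).symm]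
    exact hH0
  haveI := hiso.isIso_inr_of_isIso
  rw [Scheme.Hom.app_eq_appLE]
  exact (ConcreteCategory.isIso_iff_bijective ((pullback.snd f τ).appLE V _ le_rfl)).mp inferInstance

end Groth.Agent.PicGal22
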