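import Groth.Agent.Lib.FEtLimit25.Field
import Groth.Agent.Lib.LimShf14.Pic
import Groth.Agent.Lib.Descend.Stage
import Groth.Agent.Lib.RigDesc22.RelPic
import Groth.Agent.Lib.AbDual21.PicZero
import Groth.Agent.Lib.PicGal22.H0

/-!
# Invertible classes over an algebraic field extension come from finite stages
-/

set_option autoImplicit false
set_option linter.style.haveILetI false
set_option linter.unusedSectionVars false
set_option backward.isDefEq.respectTransparency false
set_option backward.isDefEq.respectTransparency.types false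
set_option maxHeartbeats 1000000

universe u

open CategoryTheory CategoryTheory.Limits AlgebraicGeometry Opposite

noncomputable section

namespace Groth.Agent.PicGal22

open Groth.Agent.PicDesc21 (pullCl_pullCl pullCl_trivial isInvertibleCl_pull)

/-- Spectrum of an extension, as an object over the ground field. -/
def pt (k L : Type u) [Field k] [Field L] [Algebra k L] : Over (Spec (CommRingCat.of k)) :=
  Over.mk (Spec.map (CommRingCat.ofHom (algebraMap k L)))

/-- The map of spectra given by a map of extensions. -/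
def ptMap {k L L' : Type u} [Field k] [Field L] [Field L'] [Algebra k L] [Algebra k L'] (r : L →ₐ[k] L') :
    pt k L' ⟶ pt k L :=
  Over.homMk (Spec.map (CommRingCat.ofHom r.toRingHom)) (by
    show Spec.map _ ≫ Spec.map _ = Spec.map _
    rw [← Spec.map_comp]
    exact congrArg Spec.map (CommRingCat.hom_ext r.comp_algebraMap))

theorem ptMap_comp {k L L' L'' : Type u} [Field k] [Field L] [Field L'] [Field L''] [Algebra k L] [Algebra k L']
    [Algebra k L''] (r : L →ₐ[k] L') (s : L' →ₐ[k] L'') : ptMap s ≫ ptMap r = ptMap (s.comp r) := by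
  refine Over.OverMorphism.ext ?_
  show Spec.map _ ≫ Spec.map _ = Spec.map _
  rw [← Spec.map_comp]
  rfl

section Diag

variable {k : Type u} [Field k] (K : Type u) [Field K] [Algebra k K]
  {X : Scheme.{u}} (f : X ⟶ Spec (CommRingCat.of k))

/-- The system of stages. -/
abbrev diag : (AlgColimH13.Idx k K)ᵒᵖ ⥤ Scheme.{u} := (AlgColimH13.ringDiag k K).op ⋙ Scheme.Spec

/-- The structure maps of the stages. -/
def str : diag (k := k) K ⟶ (Functor.const _).obj (Spec (CommRingCat.of k)) where
  app i := Spec.map (AlgColimH13.str k K i.unop)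
  naturality i j a := by
    show Spec.map ((AlgColimH13.ringDiag k K).map a.unop) ≫ Spec.map (AlgColimH13.str k K j.unop) =
      Spec.map (AlgColimH13.str k K i.unop) ≫ 𝟙 _
    rw [← Spec.map_comp, AlgColimH13.str_map, Category.comp_id]

instance (i : (AlgColimH13.Idx k K)ᵒᵖ) : IsAffineHom ((str (k := k) K).app i) :=
  inferInstanceAs (IsAffineHom (Spec.map (AlgColimH13.str k K i.unop)))

/-- The cone at the top. -/
def top : Cone (diag (k := k) K) where
  pt := Spec (CommRingCat.of K)
  π := { app := fun i => Spec.map (AlgColimH13.proj k K i.unop)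
         naturality := fun i j a => by
           show 𝟙 _ ≫ Spec.map (AlgColimH13.proj k K j.unop) =
             Spec.map (AlgColimH13.proj k K i.unop) ≫ Spec.map ((AlgColimH13.ringDiag k K).map a.unop)
           rw [Category.id_comp, ← Spec.map_comp, AlgColimH13.map_proj] }

attribute [local instance] IsCofiltered.isConnected

/-- The top cone is a limit. -/
def topIsLimit : IsLimit (top (k := k) K) :=
  (IsLimit.equivIsoLimit (Cone.ext (Iso.refl _) fun i => (Category.id_comp _).symm))
    (isLimitOfPreserves Scheme.Spec (AlgColimH13.ringIsColimit k K).op)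

theorem top_str (i : (AlgColimH13.Idx k K)ᵒᵖ) :
    (top (k := k) K).π.app i ≫ (str (k := k) K).app i = Spec.map (CommRingCat.ofHom (algebraMap k K)) := by
  show Spec.map _ ≫ Spec.map _ = _
  rw [← Spec.map_comp, AlgColimH13.str_proj]

variable [CompactSpace X] [QuasiSeparatedSpace X] [Algebra.IsIntegral k K]

/-- A finite subextension receiving a stage, compatibly on `X`. -/
theorem exists_refine (i : (AlgColimH13.Idx k K)ᵒᵖ) :
    ∃ (L : IntermediateField k K) (_ : FiniteDimensional k L)
      (b : PicF.XT f (pt k L) ⟶ (Descend.pbDiagram (diag K) (str K) f).obj i),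
      b ≫ pullback.fst f ((str K).app i) = pullback.fst f (pt k L).hom ∧
      PicF.XTmap f (ptMap L.val) ≫ b =
        (Descend.pbCone (diag K) (str K) f (top K) (top_str K) (IsPullback.of_hasPullback f _)).π.app i := by
  obtain ⟨L, hL, r, hr⟩ := FEtLimit25.exists_field_of_idx k K i.unop
  let sL := Spec.map (CommRingCat.ofHom (algebraMap k L))
  have hsL : sL = Spec.map (CommRingCat.ofHom r.toRingHom) ≫ (str K).app i := by
    show Spec.map _ = Spec.map _ ≫ Spec.map (AlgColimH13.str k K i.unop)
    rw [← Spec.map_comp]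
    exact congrArg Spec.map (CommRingCat.hom_ext (RingHom.ext fun a => (r.commutes a).symm))
  let b : pullback f sL ⟶ (Descend.pbDiagram (diag K) (str K) f).obj i := pullback.lift (pullback.fst f sL)
    (pullback.snd f sL ≫ Spec.map (CommRingCat.ofHom r.toRingHom)) (by
      exact (pullback.condition.trans (congrArg (pullback.snd f sL ≫ ·) hsL)).trans (Category.assoc _ _ _).symm)
  refine ⟨L, hL, b, pullback.lift_fst _ _ _, ?_⟩
  refine pullback.hom_ext ?_ ?_
  · exact ((Category.assoc _ _ _).trans ((congrArg (_ ≫ ·) (pullback.lift_fst _ _ _)).trans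
      ((pullback.lift_fst _ _ _).trans (Category.comp_id _)))).trans
      (Descend.pbCone_fst (diag K) (str K) f (top K) (top_str K) (IsPullback.of_hasPullback f _) i).symm
  · refine ((Category.assoc _ _ _).trans ((congrArg (_ ≫ ·) (pullback.lift_snd _ _ _)).trans ?_)).trans
      (Descend.pbCone_snd (diag K) (str K) f (top K) (top_str K) (IsPullback.of_hasPullback f _) i).symm
    refine (pullback.lift_snd_assoc _ _ _ _).trans ?_
    show (pullback.snd f _ ≫ Spec.map (CommRingCat.ofHom L.val.toRingHom)) ≫ Spec.map _ = _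
    rw [Category.assoc, ← Spec.map_comp]
    exact congrArg (fun q => pullback.snd f _ ≫ Spec.map q) (CommRingCat.hom_ext (RingHom.ext hr))

/-- Classes come from finite subextensions. -/
theorem exists_stage (d : PicF.Cl (PicF.XT f (pt k K))) (hd : PicF.IsInvertibleCl d) :
    ∃ (L : IntermediateField k K) (_ : FiniteDimensional k L) (dL : PicF.Cl (PicF.XT f (pt k L))),
      PicF.IsInvertibleCl dL ∧ PicF.pullCl (PicF.XTmap f (ptMap L.val)) dL = d := by
  have he := Descend.pbIsLimit (diag K) (str K) f (top K) (top_str K) (IsPullback.of_hasPullback f _) (topIsLimit K)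
  obtain ⟨i, y, hy⟩ := LimShf14.exists_picSet_rep _ _ he ⟨d, hd⟩
  obtain ⟨L, hL, b, -, hb⟩ := exists_refine K f i
  refine ⟨L, hL, PicF.pullCl b y.1, isInvertibleCl_pull b y.2, ?_⟩
  rw [pullCl_pullCl, hb]
  exact hy

/-- Classes which agree after the extension agree on the base. -/
theorem eq_of_pull_eq (hH0 : IsIso f.appTop) (s : Spec (CommRingCat.of k) ⟶ X) (hs : s ≫ f = 𝟙 _)
    {c c' : PicF.Cl X} (hc : PicF.IsInvertibleCl c) (hc' : PicF.IsInvertibleCl c')
    (h : PicF.pullCl (pullback.fst f (Spec.map (CommRingCat.ofHom (algebraMap k K)))) c =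
      PicF.pullCl (pullback.fst f (Spec.map (CommRingCat.ofHom (algebraMap k K)))) c') : c = c' := by
  classical
  let hP := IsPullback.of_hasPullback f (Spec.map (CommRingCat.ofHom (algebraMap k K)))
  have he := Descend.pbIsLimit (diag K) (str K) f (top K) (top_str K) hP (topIsLimit K)
  obtain ⟨i⟩ := (inferInstance : Nonempty (AlgColimH13.Idx k K)ᵒᵖ)
  let yc : ∀ e, PicF.IsInvertibleCl e → PicLoc.PicSet ((Descend.pbDiagram (diag K) (str K) f).obj i) :=
    fun e he => ⟨PicF.pullCl (pullback.fst f ((str K).app i)) e, isInvertibleCl_pull _ he⟩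
  obtain ⟨j, φ, hj⟩ := LimShf14.exists_picSet_eq _ _ he i (yc c hc) (yc c' hc') (by
    show PicF.pullCl _ (PicF.pullCl _ c) = PicF.pullCl _ (PicF.pullCl _ c')
    rw [pullCl_pullCl, pullCl_pullCl, Descend.pbCone_fst]
    exact h)
  replace hj : PicF.pullCl ((Descend.pbDiagram (diag K) (str K) f).map φ)
      (PicF.pullCl (pullback.fst f ((str K).app i)) c) =
      PicF.pullCl ((Descend.pbDiagram (diag K) (str K) f).map φ) (PicF.pullCl (pullback.fst f ((str K).app i)) c') := hj
  rw [pullCl_pullCl, pullCl_pullCl, Descend.pbMap_fst] at hj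
  obtain ⟨L, hL, b, hb, -⟩ := exists_refine K f j
  haveI := hL
  have hbL := congrArg (PicF.pullCl b) hj
  rw [pullCl_pullCl, pullCl_pullCl, hb] at hbL
  obtain ⟨M, rfl, hM⟩ := hc
  obtain ⟨M', rfl, hM'⟩ := hc'
  have htriv : PicF.pullCl s (PicF.cl M) = PicF.pullCl s (PicF.cl M') :=
    (AbDual21.isTrivialCl_spec_field (isInvertibleCl_pull s ⟨M, rfl, hM⟩)).trans
      (AbDual21.isTrivialCl_spec_field (isInvertibleCl_pull s ⟨M', rfl, hM'⟩)).symm
  let u : Spec (CommRingCat.of L) ⟶ Spec (CommRingCat.of k) := Spec.map (CommRingCat.ofHom (algebraMap k L))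
  haveI : LocallyOfFinitePresentation u := by
    rw [HasRingHomProperty.Spec_iff (P := @LocallyOfFinitePresentation)]
    exact (RingHom.finitePresentation_algebraMap).2 (Algebra.FinitePresentation.of_finiteType.1 inferInstance)
  refine (PicGrp.cl_eq_cl_iff M M').2 (PicDesc21.nonempty_iso_of_local f s hs (bijective_appTop_field f hH0) hM hM'
    ((PicGrp.cl_eq_cl_iff _ _).1 htriv) (u := fun _ : PUnit.{u + 1} => u)
    (PicDesc21.mem_fppf_iff.2 ⟨fun x => ⟨⟨⟩, IsLocalRing.closedPoint L, Subsingleton.elim (α := PrimeSpectrum k) _ _⟩,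
      fun _ => ⟨inferInstance, inferInstance⟩⟩) fun _ => (PicGrp.cl_eq_cl_iff _ _).1 hbL)

end Diag

end Groth.Agent.PicGal22
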